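import Mathlib
import Cfsg.Agent.H29.FiA.D0
import Cfsg.Agent.H29.FiA.R

set_option autoImplicit false
set_option maxRecDepth 100000
set_option Elab.async false
set_option linter.all false

namespace H29.FiA

noncomputable def nl : List Net := [n0, n1, n2, n3, n4, n5, n6, n7, n8]
noncomputable def T : TCData := ⟨14080, 14080, 14, 8, nth Net.nil nl, ivOf ivl, cols, hcols, R2,
  nth [] [t0, t1, t2, t3, t4, t5, t6, t7, t8], nth 0 [d0, d1, d2, d3, d4, d5, d6, d7, d8]⟩
theorem hn : NetsOK 14080 (nth Net.nil nl) := netsOK_of_all (by decide +kernel)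

end H29.FiA
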