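import Mathlib
import Cfsg.Agent.H29.FiA.R

set_option autoImplicit false
set_option maxRecDepth 100000
set_option Elab.async false
set_option linter.all false

namespace H29.FiA

noncomputable def pr0 : List (ℕ × ℕ) := [(200, (nat_lit 0x180000070000280000200000280001590000070000200000070000f900000700000100001a0000110000190000070000100000400000010000070000a50000070000ed00000700001000000700010500000700011d00000700002800000100000700002000000700001200000100001100002200000900000700009d00000700009900001000000700001800000100000700002000000700000200002200004100006200007a0000890000990000aa0000180000100000080000000000380000280000200000180000100000080000000000380000280000200000180000100000080000000000380000280000200000180000100000080000000000380000280000200000180000100000080000000000380000280000200000180000100000080000000000380000280000200000180000100000080000000000da00003800002800000700000a00000100000900001100000700006d00000700002000000700007100000800000700000a00000100000900001100000700003500000700002000000700006100000000000700000200000900002a0000110000290000070000180000200000190000180000070000280000200000280000790000070000b500000700001800000a0000010000090000070000ad00000700002000000700000100001000000700008500000700000100000800000700005500000700000100000000000700001d0000070000020000120000090000110000190000070000380000310000070000fd0000070000200000070000280000200000280000010000070000d500000700012d0000070000010000070000e5)),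
 (97, (nat_lit 0x700000400000100000700000200000700000100021a00000700011100000100012a0000070000010000fa0001120001e100011100000700003a0000220000010000210000390000e20000d90000e10000070000020000120000090000110000070000400000b10000070000cd0000070000200000070000010000c90000c20000090000c10000070000380001d90000070000c500000700000100006a0000aa0000910000a900000700000a00000100000900001200003a00005900000700008d00000700001800009100000700000100000900001a0000110000190000a100000700013900001000000700001800002000011900001800000700007d0000070000200000070000020000090000120000f10000110000070000180000200000f9))]
theorem p0 : chkProg 4 (ivOf ivl) R0 pr0 [(0, w0)] = true := by decide +kernel

noncomputable def pr1 : List (ℕ × ℕ) := [(119, (nat_lit 0x700000400000100000700001800003800000100001a0000110000190000220000100000080000290000280000180000380000400000180000100000080000180000200000280000180000380000400000180000100000080000180000200000280000180000380000400000180000100000080000180000200000280000180000380000400000180000100000080000180000200000280000180000380000400000180000100000080000180000200000280000180000380000400000180000100000080000180000200000280000180000380000400000180000100000080000180000200000280000180000380000400000180000100000080000180000200000280000180000380000400000180000100000080000180000200000070000200000400000010000070000ed0000070001250000070000200000070000200000180000200000090000180000070000200000180000200000010000180000070000ad))]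
theorem p1 : chkProg 4 (ivOf ivl) R1 pr1 [(0, w1)] = true := by decide +kernel

end H29.FiA
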